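-- helper74: FCZ package [U-D2].
import Mathlib
import Cfsg.Agent.Lib.Helper81.FCZ.Defs
import Cfsg.Agent.Lib.Helper74.FCZ.TwoInv

set_option autoImplicit false

namespace Cfsg.Agent.Lib.Helper74.FCZ

open Cfsg.Agent.Lib.Helper81.FCZ

theorem pkgUD2 : PkgUD2 :=
  not_c2_of_two_inv (K := DihedralGroup 2) (DihedralGroup.r 1) (DihedralGroup.sr 0)
    (by decide) (by decide) (by decide) (by decide) (by decide) (by decide)

end Cfsg.Agent.Lib.Helper74.FCZ
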